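import Cfsg.Agent.H776.P4.Stmts
import Cfsg.Agent.H294.PU.Gen
import Cfsg.Agent.H294.PU.Coord

/-!
# S5210 [P4-TI] (helper1)

`Aut_S(Q)` is TI modulo `Inn(Q)` for `Q = PQ K`; `PV K` and `PQ K` are centric, proper and characteristic in `PG K`.
-/

set_option autoImplicit false

namespace Cfsg.Agent.H1.P4

open Cfsg Cfsg.FusionSystem Cfsg.Agent.H776.P4
open Cfsg.Agent.H756.PU (HypK Ess Inv Com NormAut TIAut AF)
open Cfsg.Agent.H294.PU (exists_star_ne exists_tr_ne ti_core)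

universe u

/-! ### generic facts -/

section gen

variable {G : Type u} [Group G]

/-- a subset of `Q` characterized by commutation with an invariant set is invariant -/
theorem inv_of_comm {Q A B : Subgroup G} (hB : B ≤ Q)
    (h : ∀ x ∈ Q, x ∈ A ↔ ∀ y ∈ B, x * y = y * x) (γ : MulAut Q)
    (hγ : ∀ x : Q, (x : G) ∈ B ↔ ((γ x : Q) : G) ∈ B) :
    ∀ x : Q, (x : G) ∈ A ↔ ((γ x : Q) : G) ∈ A := by
  intro x
  rw [h x x.2, h _ (γ x).2]
  constructor
  · intro hx y hy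
    set y' : Q := γ⁻¹ ⟨y, hB hy⟩ with hy'
    have h1 : γ y' = ⟨y, hB hy⟩ := MulAut.apply_inv_self _ γ _
    have h2 : (y' : G) ∈ B := by rw [hγ, h1]; exact hy
    have h3 : x * y' = y' * x := by ext1; exact hx _ h2
    have h4 := congrArg γ h3
    rw [map_mul, map_mul, h1] at h4
    exact congrArg Subtype.val h4
  · intro hx y hy
    have h2 := hx _ ((hγ ⟨y, hB hy⟩).1 hy)
    have h4 : γ (x * ⟨y, hB hy⟩) = γ (⟨y, hB hy⟩ * x) := by
      rw [map_mul, map_mul]; ext1; exact h2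
    exact congrArg Subtype.val (γ.injective h4)

/-- transport of the condition `[g, e] ∈ N` -/
theorem transport {Q N : Subgroup G} {γ t : MulAut Q} {g h : G}
    (hg : ∀ x : Q, ((t x : Q) : G) = g * (x : G) * g⁻¹)
    (hh : ∀ x : Q, (((γ * t * γ⁻¹) x : Q) : G) = h * (x : G) * h⁻¹)
    (hN : ∀ x : Q, (x : G) ∈ N ↔ ((γ x : Q) : G) ∈ N) (e : Q) :
    g * (e : G) * g⁻¹ * (e : G)⁻¹ ∈ N ↔
      h * ((γ e : Q) : G) * h⁻¹ * ((γ e : Q) : G)⁻¹ ∈ N := by
  rw [← hg, ← hh]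
  have h1 : (γ * t * γ⁻¹) (γ e) = γ (t e) := by
    rw [MulAut.mul_apply, MulAut.mul_apply, MulAut.inv_apply_self]
  rw [h1]
  have h2 := hN (t e * e⁻¹)
  rw [map_mul, map_inv] at h2
  exact h2

/-- an induced automorphism which is not inner is induced by elements outside `Q` -/
theorem not_mem_of_not_inn {Q : Subgroup G} {t : MulAut Q} {g : G}
    (hg : ∀ x : Q, ((t x : Q) : G) = g * (x : G) * g⁻¹) (ht : t ∉ Inn Q) : g ∉ Q := by
  intro hgQ
  apply ht
  refine ⟨⟨g, hgQ⟩, ?_⟩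
  ext1 x
  apply Subtype.ext
  rw [hg]; rfl

/-- an automorphism trivial modulo the centre fixes commutators -/
theorem fix_comm {Q : Type u} [Group Q] (β : MulAut Q)
    (h : ∀ x, ∀ y, (x⁻¹ * β x) * y = y * (x⁻¹ * β x)) (x y : Q) :
    β (x * y * x⁻¹ * y⁻¹) = x * y * x⁻¹ * y⁻¹ := by
  have hx : β x = x * (x⁻¹ * β x) := by group
  have hy : β y = y * (y⁻¹ * β y) := by group
  set v := x⁻¹ * β x
  set w := y⁻¹ * β y
  have hv : ∀ z, v * z = z * v := h x
  have hw : ∀ z, w * z = z * w := h y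
  rw [map_mul, map_mul, map_mul, map_inv, map_inv, hx, hy]
  calc x * v * (y * w) * (x * v)⁻¹ * (y * w)⁻¹ = x * (v * (y * w)) * v⁻¹ * x⁻¹ * (w⁻¹ * y⁻¹) := by group
    _ = x * (y * w) * x⁻¹ * (w⁻¹ * y⁻¹) := by rw [hv]; group
    _ = x * y * (w * x⁻¹) * (w⁻¹ * y⁻¹) := by group
    _ = x * y * x⁻¹ * y⁻¹ := by rw [hw]; group

theorem char_of_iff {Q : Subgroup G} (h : ∀ α : MulAut G, ∀ x, x ∈ Q → α x ∈ Q) (α : MulAut G) :
    Q.map α.toMonoidHom = Q := by
  apply le_antisymm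
  · rintro _ ⟨x, hx, rfl⟩
    exact h α x hx
  · intro x hx
    exact ⟨α⁻¹ x, h α⁻¹ x hx, MulAut.apply_inv_self _ α x⟩

end gen

section

variable {K : Type u} [Field K] [StarRing K] {p n : ℕ}

/-! ### membership and commutators -/

theorem mem_PZ {x : PG K} : x ∈ PZ K ↔ x.r = 0 ∧ x.b = 0 ∧ x.c = 0 := Iff.rfl
theorem mem_PY {x : PG K} : x ∈ PY K ↔ x.r = 0 ∧ x.c = 0 := Iff.rfl
theorem mem_PV {x : PG K} : x ∈ PV K ↔ x.r = 0 := Iff.rfl
theorem mem_PQ {x : PG K} : x ∈ PQ K ↔ x.c = 0 := Iff.rfl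

theorem PZ_le_PY : PZ K ≤ PY K := fun _ h => ⟨h.1, h.2.2⟩
theorem PY_le_PQ : PY K ≤ PQ K := fun _ h => h.2
theorem PY_le_PV : PY K ≤ PV K := fun _ h => h.1

/-- `[g, e] ∈ Y` always -/
theorem comm_PY (g e : PG K) : g * e * g⁻¹ * e⁻¹ ∈ PY K := by
  refine ⟨?_, ?_⟩
  · simp only [PG.mul_r, PG.inv_r]; ring
  · simp only [PG.mul_c, PG.inv_c]; ring

/-- `[g, e] ∈ Z` -/
theorem comm_PZ {g e : PG K} : g * e * g⁻¹ * e⁻¹ ∈ PZ K ↔ g.r * e.c = e.r * g.c := by
  rw [mem_PZ]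
  have h1 := (comm_PY g e).1
  have h2 := (comm_PY g e).2
  have h3 : (g * e * g⁻¹ * e⁻¹).b = g.r * e.c - e.r * g.c := by
    simp only [PG.mul_b, PG.mul_r, PG.inv_r, PG.inv_c, PG.inv_b]; ring
  rw [h3]
  constructor
  · rintro ⟨-, h, -⟩; exact sub_eq_zero.1 h
  · intro h; exact ⟨h1, sub_eq_zero.2 h, h2⟩

/-- `Z` is central -/
theorem PZ_comm {x : PG K} (hx : x ∈ PZ K) (y : PG K) : x * y = y * x := by
  obtain ⟨h1, h2, h3⟩ := hx
  ext
  · simp [h1]
  · simp [PG.mul_a, h1, h2, h3, add_comm]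
  · simp [PG.mul_b, h1, h2, h3]
  · simp [h3]

/-- the general commuting criterion -/
theorem commute_iff {x y : PG K} : x * y = y * x ↔ x.r * y.c = y.r * x.c ∧
    x.r * star y.b + star x.r * y.b + x.r * star x.r * y.c =
      y.r * star x.b + star y.r * x.b + y.r * star y.r * x.c := by
  constructor
  · intro h
    have ha := congrArg PG.a h
    have hb := congrArg PG.b h
    rw [PG.mul_a, PG.mul_a] at ha
    rw [PG.mul_b, PG.mul_b] at hb
    exact ⟨by linear_combination hb, by linear_combination ha⟩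
  · rintro ⟨h1, h2⟩
    ext
    · simp [add_comm]
    · rw [PG.mul_a, PG.mul_a]; linear_combination h2
    · rw [PG.mul_b, PG.mul_b]; linear_combination h1
    · simp [add_comm]

/-! ### test elements -/

/-- `u_r` -/
def er (r : K) : PG K := ⟨r, 0, 0, 0, by simp, by simp⟩
/-- the elements of `Y` with given `b` -/
def eb (b : K) : PG K := ⟨0, 0, b, 0, by simp, by simp⟩
/-- the elements of `V` with given `c` -/
def ec (c : K) (hc : star c = c) : PG K := ⟨0, 0, 0, c, by simp, hc⟩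

theorem er_PQ (r : K) : er r ∈ PQ K := rfl
theorem eb_PY (b : K) : eb b ∈ PY K := ⟨rfl, rfl⟩

/-- trace orthogonal to everything is zero -/
theorem eq_zero_of_tr (h : HypK K p n) {w : K} (hw : ∀ b : K, w * star b + star w * b = 0) : w = 0 := by
  obtain ⟨b, hb⟩ := exists_star_ne h
  have e1 := hw 1
  have e2 := hw b
  rw [star_one, mul_one, mul_one] at e1
  have e3 : w * (star b - b) = 0 := by linear_combination e2 - b * e1
  rcases mul_eq_zero.1 e3 with e4 | e4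
  · exact e4
  · exact absurd (sub_eq_zero.1 e4) hb

/-- elements commuting with `Y` are in `V` -/
theorem mem_PV_iff (h : HypK K p n) {x : PG K} : x ∈ PV K ↔ ∀ y ∈ PY K, x * y = y * x := by
  constructor
  · intro hx y hy
    have hx' : x.r = 0 := hx
    rw [commute_iff, hx', hy.1, hy.2, star_zero]
    exact ⟨by ring, by ring⟩
  · intro hc
    refine eq_zero_of_tr h (w := x.r) fun b => ?_
    have := (commute_iff.1 (hc (eb b) (eb_PY b))).2
    simp only [eb, star_zero] at this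
    linear_combination this

/-- elements commuting with `Q` are in `Z` -/
theorem mem_PZ_of_comm (h : HypK K p n) {x : PG K} (hc : ∀ y ∈ PQ K, x * y = y * x) : x ∈ PZ K := by
  have hr : x.r = 0 := (mem_PV_iff h).2 fun y hy => hc y (PY_le_PQ hy)
  have hcc : x.c = 0 := by
    have := (commute_iff.1 (hc (er 1) (er_PQ 1))).1
    simp only [er] at this
    linear_combination -this
  refine ⟨hr, eq_zero_of_tr h (w := x.b) fun b => ?_, hcc⟩
  have := (commute_iff.1 (hc (er b) (er_PQ b))).2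
  simp only [er, star_zero, hr, hcc] at this
  linear_combination -this

theorem mem_PZ_iff (h : HypK K p n) {x : PG K} : x ∈ PZ K ↔ ∀ y, x * y = y * x :=
  ⟨fun hx y => PZ_comm hx y, fun hc => mem_PZ_of_comm h (fun y _ => hc y)⟩

theorem mem_PY_iff {x : PG K} : x ∈ PY K ↔ ∀ g : PG K, g * x * g⁻¹ * x⁻¹ ∈ PZ K := by
  constructor
  · intro hx g
    rw [comm_PZ, hx.1, hx.2]; ring
  · intro hx
    have h1 := comm_PZ.1 (hx (er 1))
    have h2 := comm_PZ.1 (hx (ec 1 (star_one K)))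
    simp only [er, ec] at h1 h2
    exact ⟨by linear_combination -h2, by linear_combination h1⟩

/-- `Z` consists of commutators of elements of `Q` -/
theorem Z_comm_form (h : HypK K p n) {v : PG K} (hv : v ∈ PZ K) :
    ∃ x ∈ PQ K, ∃ y ∈ PQ K, v = x * y * x⁻¹ * y⁻¹ := by
  obtain ⟨h1, h2, h3⟩ := hv
  obtain ⟨θ, hθ⟩ := exists_tr_ne h
  have hs : star (θ + star θ) = θ + star θ := by rw [star_add, star_star, add_comm]
  set b : K := v.a * θ / (θ + star θ) with hb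
  have hb' : star b = v.a * star θ / (θ + star θ) := by
    rw [hb, star_div₀, hs, star_mul', v.ha]
  have hbb : star b + b = v.a := by
    rw [hb', hb, ← add_div, div_eq_iff hθ]; ring
  refine ⟨er 1, rfl, eb b, rfl, ?_⟩
  rw [eq_mul_inv_iff_mul_eq, eq_mul_inv_iff_mul_eq]
  ext
  · simp [er, eb, h1]
  · simp only [PG.mul_a, PG.mul_r, er, eb, star_zero, star_one, h1]
    linear_combination -hbb
  · simp [PG.mul_b, er, eb, h1, h2]
  · simp [er, eb, h3]

/-! ### exponent and finiteness -/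

theorem finite_PG (h : HypK K p n) : Finite (PG K) := by
  have := h.fin
  refine Finite.of_injective (β := K × K × K × K) (fun x => (x.r, x.a, x.b, x.c)) ?_
  intro x y hxy
  simp only [Prod.mk.injEq] at hxy
  obtain ⟨h1, h2, h3, h4⟩ := hxy
  exact PG.ext h1 h2 h3 h4

theorem pow_r (x : PG K) (j : ℕ) : (x ^ j).r = j * x.r := by
  induction j with
  | zero => simp
  | succ j ih => rw [pow_succ, PG.mul_r, ih]; push_cast; ring

theorem pow_c (x : PG K) (j : ℕ) : (x ^ j).c = j * x.c := by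
  induction j with
  | zero => simp
  | succ j ih => rw [pow_succ, PG.mul_c, ih]; push_cast; ring

theorem pow_PY (x : PG K) (hx : x ∈ PY K) (j : ℕ) : (x ^ j).a = j * x.a ∧ (x ^ j).b = j * x.b := by
  obtain ⟨h1, h2⟩ := hx
  induction j with
  | zero => simp
  | succ j ih =>
    obtain ⟨i1, i2⟩ := ih
    have k1 : (x ^ j).r = 0 := by rw [pow_r, h1, mul_zero]
    refine ⟨?_, ?_⟩
    · rw [pow_succ, PG.mul_a, k1, i1, star_zero]; push_cast; ring
    · rw [pow_succ, PG.mul_b, k1, i2]; push_cast; ring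

theorem exp_PG (h : HypK K p n) (x : PG K) : x ^ p ^ 2 = 1 := by
  have := h.char
  have hp : (p : K) = 0 := CharP.cast_eq_zero K p
  have e1 : x ^ p ∈ PY K := ⟨by rw [pow_r, hp, zero_mul], by rw [pow_c, hp, zero_mul]⟩
  have e2 : (x ^ p) ^ p = 1 := by
    obtain ⟨i1, i2⟩ := pow_PY _ e1 p
    ext
    · rw [pow_r, hp, zero_mul, PG.one_r]
    · rw [i1, hp, zero_mul, PG.one_a]
    · rw [i2, hp, zero_mul, PG.one_b]
    · rw [pow_c, hp, zero_mul, PG.one_c]
  rw [← e2, ← pow_mul]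
  congr 1
  ring

/-! ### the TI statement -/

theorem inv_mul_mem {N : Subgroup (PG K)} (hn : ∀ g : PG K, ∀ x ∈ N, g * x * g⁻¹ ∈ N) {g x : PG K}
    (h : g * x * g⁻¹ * x⁻¹ ∈ N) : x⁻¹ * (g * x * g⁻¹) ∈ N := by
  have := hn x⁻¹ _ h
  simpa [mul_assoc] using this

theorem n_PY (g x : PG K) (hx : x ∈ PY K) : g * x * g⁻¹ ∈ PY K := by
  have := (PY K).mul_mem (comm_PY g x) hx
  simpa [mul_assoc] using this

theorem n_PZ (g x : PG K) (hx : x ∈ PZ K) : g * x * g⁻¹ ∈ PZ K := by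
  rw [← PZ_comm hx g]
  simpa [mul_assoc] using hx

theorem ti (hK : HypK K p n) {Γ : Subgroup (MulAut (PQ K))} (hΓ : autInducedBy ⊤ (PQ K) ≤ Γ)
    (hsyl : ∀ P : Subgroup (MulAut (PQ K)), P ≤ Γ → IsPGroup p P →
      ∃ g ∈ Γ, ∀ x ∈ P, g * x * g⁻¹ ∈ autInducedBy ⊤ (PQ K)) : TIAut (⊤ : Subgroup (PG K)) Γ := by
  intro γ hγ t ht hti hti'
  have := finite_PG hK
  obtain ⟨g, -, hg⟩ := (Cfsg.Agent.H802.mem_autInducedBy_iff _ _ _).1 ht
  obtain ⟨h, -, hh⟩ := (Cfsg.Agent.H802.mem_autInducedBy_iff _ _ _).1 hti'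
  have hgr : g.c ≠ 0 := not_mem_of_not_inn hg hti
  have hni : γ * t * γ⁻¹ ∉ Inn (PQ K) := fun hc => by
    apply hti
    obtain ⟨y, hy⟩ := hc
    refine ⟨γ⁻¹ y, ?_⟩
    have h1 : t = γ⁻¹ * (γ * t * γ⁻¹) * γ := by group
    rw [h1, ← hy]
    ext1 z
    rw [MulAut.mul_apply, MulAut.mul_apply, MulAut.conj_apply, MulAut.conj_apply, map_mul, map_mul,
      map_inv, MulAut.inv_apply_self]
  have hhr : h.c ≠ 0 := not_mem_of_not_inn hh hni
  have gV : ∀ x : PQ K, (x : PG K) ∈ PZ K ↔ ((γ x : PQ K) : PG K) ∈ PZ K :=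
    inv_of_comm le_rfl (fun x _ => ⟨fun hv y _ => PZ_comm hv y, fun hc => mem_PZ_of_comm hK hc⟩) γ
      (fun x => ⟨fun _ => (γ x).2, fun _ => x.2⟩)
  have char : ∀ g : PG K, g.c ≠ 0 → ∀ e : PQ K, (e : PG K) ∈ PY K ↔
      g * (e : PG K) * g⁻¹ * (e : PG K)⁻¹ ∈ PZ K := fun g hg e => by
    have hec : (e : PG K).c = 0 := e.2
    rw [comm_PZ, hec, mul_zero]
    constructor
    · intro he; rw [he.1, zero_mul]
    · intro he; exact ⟨(mul_eq_zero.1 he.symm).resolve_right hg, hec⟩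
  have g2 : ∀ x : PQ K, (x : PG K) ∈ PY K ↔ ((γ x : PQ K) : PG K) ∈ PY K := fun e => by
    rw [char g hgr e, char h hhr (γ e)]
    exact transport hg hh gV e
  refine ti_core (exp_PG hK) (V := PZ K) (M1 := PZ K) (M2 := PY K) le_rfl PZ_le_PY PY_le_PQ
    (fun v hv x _ => PZ_comm hv x) ?_ (fun g x _ => inv_mul_mem n_PY (comm_PY g x))
    (fun g x hx => inv_mul_mem n_PZ (mem_PY_iff.1 hx g))
    (fun g x hx => inv_mul_mem n_PZ (mem_PY_iff.1 (PZ_le_PY hx) g)) hΓ hsyl hγ gV gV g2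
  intro β hβ v hv
  obtain ⟨x1, hx1, y1, hy1, he⟩ := Z_comm_form hK hv
  have hc : ∀ x y : PQ K, (x⁻¹ * β x) * y = y * (x⁻¹ * β x) := fun x y => by
    ext1; exact PZ_comm (hβ x) y
  have he' : v = ⟨x1, hx1⟩ * ⟨y1, hy1⟩ * ⟨x1, hx1⟩⁻¹ * ⟨y1, hy1⟩⁻¹ := by
    ext1; exact he
  rw [he', fix_comm β hc]

/-! ### characteristic subgroups -/

theorem char_PZ (hK : HypK K p n) (α : MulAut (PG K)) {x : PG K} (hx : x ∈ PZ K) : α x ∈ PZ K := by
  rw [mem_PZ_iff hK] at hx ⊢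
  intro y
  have h1 : α (α⁻¹ y) = y := MulAut.apply_inv_self _ α y
  rw [← h1, ← map_mul, hx, map_mul]

theorem char_PY (hK : HypK K p n) (α : MulAut (PG K)) {x : PG K} (hx : x ∈ PY K) : α x ∈ PY K := by
  rw [mem_PY_iff] at hx ⊢
  intro y
  have h1 : α (α⁻¹ y) = y := MulAut.apply_inv_self _ α y
  have := char_PZ hK α (hx (α⁻¹ y))
  rwa [map_mul, map_mul, map_mul, map_inv, map_inv, h1] at this

theorem char_PV (hK : HypK K p n) (α : MulAut (PG K)) {x : PG K} (hx : x ∈ PV K) : α x ∈ PV K := by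
  rw [mem_PV_iff hK] at hx ⊢
  intro y hy
  have h1 : α (α⁻¹ y) = y := MulAut.apply_inv_self _ α y
  rw [← h1, ← map_mul, hx _ (char_PY hK α⁻¹ hy), map_mul]

theorem char_PQ (hK : HypK K p n) (α : MulAut (PG K)) {x : PG K} (hx : x ∈ PQ K) : α x ∈ PQ K := by
  -- the image of `Q` covers `S/V`
  have cov : ∀ ρ : K, ∃ w ∈ PQ K, (α w).r = ρ := fun ρ => by
    set s : PG K := α⁻¹ (er ρ) with hs
    have h1 : α s = er ρ := MulAut.apply_inv_self _ α _
    refine ⟨er s.r, rfl, ?_⟩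
    have h2 : s * (er s.r)⁻¹ ∈ PV K := by
      change (s * (er s.r)⁻¹).r = 0
      rw [PG.mul_r, PG.inv_r]; simp [er]
    have h3 : (α (s * (er s.r)⁻¹)).r = 0 := char_PV hK α h2
    rw [map_mul, map_inv, h1, PG.mul_r, PG.inv_r] at h3
    have : (er ρ : PG K).r = ρ := rfl
    rw [this] at h3
    linear_combination -h3
  have comm : ∀ v ∈ PQ K, ∀ w ∈ PQ K, (α v).r * (α w).c = (α w).r * (α v).c := fun v hv w hw => by
    have hv' : v.c = 0 := hv
    have hw' : w.c = 0 := hw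
    have : v * w * v⁻¹ * w⁻¹ ∈ PZ K := by
      rw [comm_PZ, hv', hw', mul_zero, mul_zero]
    have := char_PZ hK α this
    rw [map_mul, map_mul, map_mul, map_inv, map_inv] at this
    exact comm_PZ.1 this
  obtain ⟨b, hb⟩ := exists_star_ne hK
  obtain ⟨w1, hw1, r1⟩ := cov 1
  obtain ⟨wb, hwb, rb⟩ := cov b
  have k1 : ∀ v ∈ PQ K, (α v).c = (α v).r * (α w1).c := fun v hv => by
    have := comm v hv w1 hw1
    rw [r1, one_mul] at this
    exact this.symm
  have hc0 : (α w1).c = 0 := by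
    have h1 := (α wb).hc
    rw [k1 wb hwb, rb, star_mul', (α w1).hc] at h1
    have h2 : (star b - b) * (α w1).c = 0 := by linear_combination h1
    exact (mul_eq_zero.1 h2).resolve_left (sub_ne_zero.2 hb)
  change (α x).c = 0
  rw [k1 x hx, hc0, mul_zero]

/-! ### the statement -/

/-- (TI), `Cfsg.Agent.H776.P4.StTI` -/
theorem stTI : StTI.{u} := by
  intro K _ _ p n hK
  refine ⟨fun Γ hΓ hsyl => ti hK hΓ hsyl, fun Q hQ => ?_⟩
  rcases hQ with rfl | rfl
  · refine ⟨?_, ?_, char_of_iff (fun α x hx => char_PV hK α hx)⟩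
    · rintro x ⟨-, hx'⟩
      have hx : ∀ y ∈ _, y * x = x * y := Subgroup.mem_centralizer_iff.1 hx'
      rw [mem_PV_iff hK]
      exact fun y hy => (hx y (PY_le_PV hy)).symm
    · intro htop
      have : er (1 : K) ∈ PV K := by rw [htop]; trivial
      exact one_ne_zero (α := K) this
  · refine ⟨?_, ?_, char_of_iff (fun α x hx => char_PQ hK α hx)⟩
    · rintro x ⟨-, hx'⟩
      have hx : ∀ y ∈ _, y * x = x * y := Subgroup.mem_centralizer_iff.1 hx'
      exact PY_le_PQ (PZ_le_PY (mem_PZ_of_comm hK (fun y hy => (hx y hy).symm)))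
    · intro htop
      have : ec (1 : K) (star_one K) ∈ PQ K := by rw [htop]; trivial
      exact one_ne_zero (α := K) this

end

end Cfsg.Agent.H1.P4
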